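import Groth.Agent.AbSchX.HomShExact
import Groth.Agent.AbSchX.BiextTriv

/-! The dual of a short exact sequence when the first Ext sheaf vanishes; the five lemma for double duals. -/

universe u

open CategoryTheory CategoryTheory.Limits Opposite

namespace Groth.Agent.GmFive79

open Groth.Agent.AbSchX SheafSect

variable {C : Type (u + 1)} [Category.{u} C] {J : GrothendieckTopology C}

section Free

variable (T : C)

/-- Extension by zero of a presheaf on the slice. -/
noncomputable def free (F : Cᵒᵖ ⥤ AddCommGrpCat.{u + 1}) : Cᵒᵖ ⥤ AddCommGrpCat.{u + 1} where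
  obj X := AddCommGrpCat.of ((X.unop ⟶ T) →₀ F.obj X)
  map {X Y} g := AddCommGrpCat.ofHom (Finsupp.liftAddHom fun h =>
    (Finsupp.singleAddHom (g.unop ≫ h)).comp (F.map g).hom)
  map_id X := AddCommGrpCat.hom_ext (Finsupp.addHom_ext fun h x => by simp)
  map_comp f g := AddCommGrpCat.hom_ext (Finsupp.addHom_ext fun h x => by simp)

variable {T}

/-- Functoriality of extension by zero. -/
noncomputable def freeMap {F F' : Cᵒᵖ ⥤ AddCommGrpCat.{u + 1}} (α : F ⟶ F') : free T F ⟶ free T F' where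
  app X := AddCommGrpCat.ofHom (Finsupp.mapRange.addMonoidHom (α.app X).hom)
  naturality X Y g := AddCommGrpCat.hom_ext (Finsupp.addHom_ext fun h x => by
    show (Finsupp.mapRange.addMonoidHom (α.app Y).hom) (Finsupp.liftAddHom (fun h' : X.unop ⟶ T =>
        (Finsupp.singleAddHom (g.unop ≫ h')).comp (F.map g).hom) (Finsupp.single h x)) =
      Finsupp.liftAddHom (fun h' : X.unop ⟶ T => (Finsupp.singleAddHom (g.unop ≫ h')).comp (F'.map g).hom)
        ((Finsupp.mapRange.addMonoidHom (α.app X).hom) (Finsupp.single h x))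
    rw [Finsupp.liftAddHom_apply_single, Finsupp.mapRange.addMonoidHom_apply, Finsupp.mapRange.addMonoidHom_apply,
      Finsupp.mapRange_single, Finsupp.liftAddHom_apply_single]
    refine (Finsupp.mapRange_single (f := (α.app Y).hom) (hf := map_zero _)).trans ?_
    exact congrArg (Finsupp.single (g.unop ≫ h)) (NatTrans.naturality_apply α g x))

theorem freeMap_single {F F' : Cᵒᵖ ⥤ AddCommGrpCat.{u + 1}} (α : F ⟶ F') (X : Cᵒᵖ) (h : X.unop ⟶ T)
    (x : F.obj X) : (freeMap α).app X (Finsupp.single h x) = Finsupp.single h (α.app X x) :=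
  Finsupp.mapRange_single (f := (α.app X).hom) (hf := map_zero _)

theorem mono_freeMap {F F' : Cᵒᵖ ⥤ AddCommGrpCat.{u + 1}} (α : F ⟶ F')
    (h : ∀ X, Function.Injective (α.app X)) : Mono (freeMap (T := T) α) := by
  haveI : ∀ X, Mono ((freeMap (T := T) α).app X) := fun X => (AddCommGrpCat.mono_iff_injective _).2
    (Finsupp.mapRange_injective (α.app X).hom (map_zero _) (h X))
  exact NatTrans.mono_of_mono_app _

/-- The adjoint of a morphism on the slice. -/
noncomputable def freeAdj {F M : Sheaf J AddCommGrpCat.{u + 1}} (φ : F.over T ⟶ M.over T) :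
    free T F.obj ⟶ M.obj where
  app X := AddCommGrpCat.ofHom (Finsupp.liftAddHom fun h => ap φ (Over.mk h))
  naturality X Y g := AddCommGrpCat.hom_ext (Finsupp.addHom_ext fun h x => by
    have e := ap_nat φ (Over.homMk g.unop rfl : Over.mk (g.unop ≫ h) ⟶ Over.mk h) x
    simpa [free] using e)

theorem freeAdj_single {F M : Sheaf J AddCommGrpCat.{u + 1}} (φ : F.over T ⟶ M.over T) (X : Cᵒᵖ)
    (h : X.unop ⟶ T) (x : F.obj.obj X) : (freeAdj φ).app X (Finsupp.single h x) = ap φ (Over.mk h) x :=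
  Finsupp.liftAddHom_apply_single _ _ _

end Free

variable [HasSheafify J AddCommGrpCat.{u + 1}]

/-- Extension of a morphism on a slice into an injective sheaf. -/
theorem exists_extend {F F' I : Sheaf J AddCommGrpCat.{u + 1}} [Injective I] (α : F ⟶ F') [Mono α] {T : C}
    (φ : (HomSh.homSh J F I).obj.obj (op T)) :
    ∃ ψ : (HomSh.homSh J F' I).obj.obj (op T), (HomSh.homShMap J α (𝟙 I)).hom.app (op T) ψ = φ := by
  haveI : Injective ((sheafToPresheaf J AddCommGrpCat.{u + 1}).obj I) :=
    Injective.injective_of_adjoint (sheafificationAdjunction J AddCommGrpCat.{u + 1}) I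
  haveI : Injective I.obj := ‹Injective ((sheafToPresheaf J AddCommGrpCat.{u + 1}).obj I)›
  haveI := mono_freeMap (T := T) α.hom fun X => injective_app α X.unop
  let Φ := Injective.factorThru (freeAdj φ) (freeMap (T := T) α.hom)
  have hΦ : freeMap (T := T) α.hom ≫ Φ = freeAdj φ := Injective.comp_factorThru _ _
  refine ⟨mkHom (fun U => (Φ.app (op U.left)).hom.comp (Finsupp.singleAddHom U.hom)) (fun U V g x => ?_),
    SheafSect.hom_ext fun U x => ?_⟩
  · refine Eq.trans ?_ (NatTrans.naturality_apply Φ g.left.op (Finsupp.single U.hom x))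
    refine congrArg (Φ.app (op V.left)) ?_
    refine Eq.trans ?_ (Finsupp.liftAddHom_apply_single (M := F'.obj.obj (op U.left))
      (fun h : U.left ⟶ T => (Finsupp.singleAddHom (g.left ≫ h)).comp (F'.obj.map g.left.op).hom) U.hom x).symm
    exact congrArg (fun h => Finsupp.single h (F'.obj.map g.left.op x)) (Over.w g).symm
  · refine (HomShExact.ap_precomp α _ U x).trans ?_
    refine (congrArg (Φ.app (op U.left)) (freeMap_single α.hom (op U.left) U.hom x).symm).trans ?_
    refine (ConcreteCategory.congr_hom (congr_app hΦ (op U.left)) (Finsupp.single U.hom x)).trans ?_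
    exact freeAdj_single φ (op U.left) U.hom x

/-- Exactness from exactness on sections. -/
theorem exact_of_sections (S : ShortComplex (Sheaf J AddCommGrpCat.{u + 1}))
    (h : ∀ (T : C) x, S.g.hom.app (op T) x = 0 → ∃ y, S.f.hom.app (op T) y = x) : S.Exact := by
  rw [S.exact_iff_epi_kernel_lift, ← Sheaf.isLocallySurjective_iff_epi']
  refine ⟨fun {T} z => J.superset_covering ?_ (J.top_mem T)⟩
  intro W f _
  have h0 : S.g.hom.app (op W) ((kernel.ι S.g).hom.app (op W) ((kernel S.g).obj.map f.op z)) = 0 :=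
    ConcreteCategory.congr_hom (congr_app (congrArg InducedCategory.Hom.hom (kernel.condition S.g)) (op W)) _
  obtain ⟨y, hy⟩ := h W _ h0
  refine ⟨y, injective_app (kernel.ι S.g) W ?_⟩
  refine Eq.trans ?_ hy
  exact ConcreteCategory.congr_hom
    (congr_app (congrArg InducedCategory.Hom.hom (kernel.lift_ι S.g S.f S.zero)) (op W)) y

section Dual

variable (S : ShortComplex (Sheaf J AddCommGrpCat.{u + 1})) (hS : S.ShortExact)
variable (M : Sheaf J AddCommGrpCat.{u + 1})

include hS

theorem injective_precomp_g {T : C} :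
    Function.Injective ((HomSh.homShMap J S.g (𝟙 M)).hom.app (op T)) := by
  haveI := hS.epi_g
  refine (injective_iff_map_eq_zero _).2 fun χ hχ => SheafSect.hom_ext fun U a => ?_
  obtain ⟨R, hR, k⟩ := local_of_epi S.g U.left a
  refine ext_of_local M hR fun W f hf => ?_
  obtain ⟨y, hy⟩ := k f hf
  refine Eq.trans (ap_nat χ (Over.homMk f rfl : Over.mk (f ≫ U.hom) ⟶ U) a).symm ?_
  refine (congrArg (ap χ (Over.mk (f ≫ U.hom))) hy.symm).trans ?_
  refine (HomShExact.ap_precomp S.g χ (Over.mk (f ≫ U.hom)) y).symm.trans ?_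
  rw [hχ]
  exact (map_zero (M.obj.map f.op).hom).symm

/-- The dual sequence. -/
noncomputable def dualSeq : ShortComplex (Sheaf J AddCommGrpCat.{u + 1}) :=
  ShortComplex.mk (HomSh.homShMap J S.g (𝟙 M)) (HomSh.homShMap J S.f (𝟙 M))
    (Sheaf.hom_ext (NatTrans.ext (funext fun T => AddCommGrpCat.ext fun χ => SheafSect.hom_ext fun U x => by
      refine Eq.trans ?_ (map_zero (ap χ U))
      refine Eq.trans (b := ap χ U (S.g.hom.app (op U.left) (S.f.hom.app (op U.left) x))) rfl ?_
      exact congrArg (ap χ U) (ConcreteCategory.congr_hom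
        (congr_app (congrArg InducedCategory.Hom.hom S.zero) (op U.left)) x))))

theorem exact_dualSeq {T : C} (φ : (HomSh.homSh J S.X₂ M).obj.obj (op T))
    (h : (HomSh.homShMap J S.f (𝟙 M)).hom.app (op T) φ = 0) :
    ∃ χ, (HomSh.homShMap J S.g (𝟙 M)).hom.app (op T) χ = φ := by
  obtain ⟨χ, hχ⟩ := HomShExact.exists_factor S hS φ fun U x => by
    rw [← HomShExact.ap_precomp S.f φ U x, h]; rfl
  exact ⟨χ, SheafSect.hom_ext fun U y => hχ U y⟩

variable [EnoughInjectives (Sheaf J AddCommGrpCat.{u + 1})]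

/-- Precomposition with the inclusion is epi when the first Ext sheaf vanishes. -/
theorem epi_precomp_f (hE : IsZero ((HomSh.extSh J S.X₃ 1).obj M)) : Epi (HomSh.homShMap J S.f (𝟙 M)) := by
  haveI := hS.mono_f
  let I := Injective.under M
  let i : M ⟶ I := Injective.ι M
  let π := cokernel.π i
  haveI : Mono i := inferInstanceAs (Mono (Injective.ι M))
  have w : i ≫ π = 0 := cokernel.condition i
  have hex : (ShortComplex.mk i π w).Exact := ShortComplex.exact_of_g_is_cokernel _ (cokernelIsCokernel i)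
  obtain ⟨ρ, hρ, hρex⟩ := BiextTriv.exists_rho S.X₃ i π w hex
  haveI : Epi (HomSh.homShMap J (𝟙 S.X₃) π) := hρex.epi_f (hE.eq_of_tgt _ _)
  rw [← Sheaf.isLocallySurjective_iff_epi']
  refine ⟨fun {T} φ => ?_⟩
  obtain ⟨ψ, hψ⟩ := exists_extend S.f ((HomSh.homShMap J (𝟙 S.X₁) i).hom.app (op T) φ)
  have hψ' : ∀ (U : Over T) x, ap ψ U (S.f.hom.app (op U.left) x) = i.hom.app (op U.left) (ap φ U x) := fun U x =>
    (HomShExact.ap_precomp S.f ψ U x).symm.trans ((congrArg (fun t => ap t U x) hψ).trans (ap_homShMap i φ U x))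
  obtain ⟨χ, hχ⟩ := HomShExact.exists_factor S hS ((HomSh.homShMap J (𝟙 S.X₂) π).hom.app (op T) ψ) fun U x => by
    rw [ap_homShMap, hψ']
    exact ConcreteCategory.congr_hom (congr_app (congrArg InducedCategory.Hom.hom w) (op U.left)) _
  obtain ⟨R, hR, k⟩ := local_of_epi (HomSh.homShMap J (𝟙 S.X₃) π) T χ
  refine J.superset_covering ?_ hR
  intro W f hf
  obtain ⟨χ', hχ'⟩ := k f hf
  let ψ' : (HomSh.homSh J S.X₂ I).obj.obj (op W) :=
    (HomSh.homSh J S.X₂ I).obj.map f.op ψ - (HomSh.homShMap J S.g (𝟙 I)).hom.app (op W) χ'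
  have h0 : (HomSh.homShMap J (𝟙 S.X₂) π).hom.app (op W) ψ' = 0 := by
    rw [map_sub, sub_eq_zero]
    refine SheafSect.hom_ext fun U x => ?_
    rw [ap_homShMap, ap_homShMap, ap_res, HomShExact.ap_precomp]
    have e1 := (ap_homShMap π χ' U (S.g.hom.app (op U.left) x)).symm.trans
      ((congrArg (fun t => ap t U _) hχ').trans (ap_res f χ U _))
    rw [e1]
    exact ((hχ ((Over.map f).obj U) x).trans (ap_homShMap π ψ ((Over.map f).obj U) x)).symm
  haveI : Mono ((ShortComplex.mk i π w).map (HomSh.homShFunctor J S.X₂)).f :=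
    inferInstanceAs (Mono ((HomSh.homShFunctor J S.X₂).map i))
  obtain ⟨φ', hφ'⟩ := exists_of_exact ((ShortComplex.mk i π w).map (HomSh.homShFunctor J S.X₂))
    (hex.map_of_mono_of_preservesKernel (HomSh.homShFunctor J S.X₂) ‹Mono i› inferInstance) W ψ' h0
  refine ⟨φ', SheafSect.hom_ext fun U x => injective_app i U.left ?_⟩
  have h4 := (ap_homShMap i φ' U (S.f.hom.app (op U.left) x)).symm.trans
    (congrArg (fun t => ap t U (S.f.hom.app (op U.left) x)) hφ')
  rw [HomShExact.ap_precomp S.f φ' U x, ap_res, h4]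
  refine Eq.trans ?_ (hψ' ((Over.map f).obj U) x)
  show ap ((HomSh.homSh J S.X₂ I).obj.map f.op ψ) U _ -
      ap ((HomSh.homShMap J S.g (𝟙 I)).hom.app (op W) χ') U _ = _
  rw [HomShExact.ap_precomp]
  have e0 : S.g.hom.app (op U.left) (S.f.hom.app (op U.left) x) = 0 :=
    ConcreteCategory.congr_hom (congr_app (congrArg InducedCategory.Hom.hom S.zero) (op U.left)) x
  rw [e0, map_zero, sub_zero, ap_res]
  rfl

theorem shortExact_dualSeq (hE : IsZero ((HomSh.extSh J S.X₃ 1).obj M)) : (dualSeq S M).ShortExact where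
  exact := exact_of_sections _ fun _ φ h => exact_dualSeq S hS M φ h
  mono_f := HomShExact.mono_of_injective _ fun _ => injective_precomp_g S hS M
  epi_g := epi_precomp_f S hS M hE

/-- The five lemma for double duals. -/
theorem isIso_bidual (hE : IsZero ((HomSh.extSh J S.X₃ 1).obj M))
    (h₁ : IsIso (HomSh.bidualMap J S.X₁ M)) (h₃ : IsIso (HomSh.bidualMap J S.X₃ M)) :
    IsIso (HomSh.bidualMap J S.X₂ M) := by
  haveI := hS.mono_f
  haveI := hS.epi_g
  let D := dualSeq S M
  have hD : D.ShortExact := shortExact_dualSeq S hS M hE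
  let d : ∀ (F : Sheaf J AddCommGrpCat.{u + 1}) (T : C), F.obj.obj (op T) →
      (HomSh.homSh J (HomSh.homSh J F M) M).obj.obj (op T) := fun F T => (HomSh.bidualMap J F M).hom.app (op T)
  have nat : ∀ {F F' : Sheaf J AddCommGrpCat.{u + 1}} (a : F ⟶ F') (T : C) (x : F.obj.obj (op T)),
      (HomSh.homShMap J (HomSh.homShMap J a (𝟙 M)) (𝟙 M)).hom.app (op T) (d F T x) =
        d F' T (a.hom.app (op T) x) := by
    intro F F' a T x
    refine SheafSect.hom_ext fun U φ => ?_
    refine Eq.trans (b := ap φ (Over.mk (𝟙 U.left)) (a.hom.app (op U.left) (F.obj.map U.hom.op x))) rfl ?_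
    exact congrArg (ap φ (Over.mk (𝟙 U.left))) (app_map a U.hom x)
  have bij : ∀ F : Sheaf J AddCommGrpCat.{u + 1}, IsIso (HomSh.bidualMap J F M) → ∀ T, Function.Bijective (d F T) :=
    fun F _ T => (ConcreteCategory.isIso_iff_bijective _).1
      (inferInstanceAs (IsIso (((sheafToPresheaf J AddCommGrpCat.{u + 1}).map (HomSh.bidualMap J F M)).app (op T))))
  have inj₂ : ∀ T, Function.Injective (d S.X₂ T) := fun T =>
    (injective_iff_map_eq_zero ((HomSh.bidualMap J S.X₂ M).hom.app (op T)).hom).2 fun x hx => by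
      have h : d S.X₃ T (S.g.hom.app (op T) x) = 0 :=
        (nat S.g T x).symm.trans ((congrArg _ hx).trans (map_zero _))
      have hg : S.g.hom.app (op T) x = 0 := (bij _ h₃ T).1 (h.trans (map_zero _).symm)
      obtain ⟨y, rfl⟩ := exists_of_exact S hS.exact T x hg
      have h' : d S.X₁ T y = 0 := (injective_precomp_g D hD M) (((nat S.f T y).trans hx).trans (map_zero _).symm)
      rw [show y = 0 from (bij _ h₁ T).1 (h'.trans (map_zero _).symm), map_zero]
  refine HomShExact.isIso_of_bijective _ fun T => ⟨inj₂ T, fun z => ?_⟩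
  obtain ⟨w, hw⟩ := (bij _ h₃ T).2
    ((HomSh.homShMap J (HomSh.homShMap J S.g (𝟙 M)) (𝟙 M)).hom.app (op T) z)
  obtain ⟨R, hR, k⟩ := local_of_epi S.g T w
  have hloc : ∀ ⦃W : C⦄ (f : W ⟶ T), R f → ∃ x, d S.X₂ W x =
      (HomSh.homSh J (HomSh.homSh J S.X₂ M) M).obj.map f.op z := by
    intro W f hf
    obtain ⟨x, hx⟩ := k f hf
    have e : (HomSh.homShMap J (HomSh.homShMap J S.g (𝟙 M)) (𝟙 M)).hom.app (op W)
        ((HomSh.homSh J (HomSh.homSh J S.X₂ M) M).obj.map f.op z - d S.X₂ W x) = 0 := by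
      rw [map_sub, sub_eq_zero, app_map, nat, hx, ← hw]
      exact (app_map (HomSh.bidualMap J S.X₃ M) f w).symm
    obtain ⟨y', hy'⟩ := exact_dualSeq D hD M _ e
    obtain ⟨y, rfl⟩ := (bij _ h₁ W).2 y'
    refine ⟨x + S.f.hom.app (op W) y, (map_add ((HomSh.bidualMap J S.X₂ M).hom.app (op W)).hom _ _).trans ?_⟩
    exact (congrArg (d S.X₂ W x + ·) ((nat S.f W y).symm.trans hy')).trans (add_sub_cancel _ _)
  obtain ⟨x, hx⟩ := glue S.X₂
    (fun W f x => d S.X₂ W x = (HomSh.homSh J (HomSh.homSh J S.X₂ M) M).obj.map f.op z)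
    (fun W W' f g x hx => (app_map (HomSh.bidualMap J S.X₂ M) g x).trans ((congrArg _ hx).trans
      (map_map _ f g z).symm))
    (fun W f x y hx hy => inj₂ W (hx.trans hy.symm)) hR hloc
  exact ⟨x, ext_of_local _ hR fun W f hf => (app_map (HomSh.bidualMap J S.X₂ M) f x).symm.trans (hx f hf)⟩

end Dual

end Groth.Agent.GmFive79
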